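import Cfsg.Agent.H616.TI.Defs
import Cfsg.Agent.H748.RoPSL
import Cfsg.Agent.SuzukiRankOne.PSUModel

/-!
# `GoodL` for `PSL₂(q)` (helper417)

`result : GoalAL.{0} → GoalPSL` (`S4821`, TEAM TI).  The Borel subgroup facts on `PSL₂(F)` are those of
`H705/ComPSL.lean`, repeated here with a small import closure.
-/

set_option autoImplicit false
set_option linter.unusedSectionVars false
set_option linter.style.haveILetI false
set_option linter.unusedVariables false

namespace Cfsg.Agent.H417.TI.Psl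

open Cfsg Cfsg.Agent.LieRecognition.RankOneAbstract Cfsg.Agent.H255 Cfsg.Agent.H255.RankOne Cfsg.Agent.H255.RankTools
open Cfsg.Agent.H748.RoPSL Cfsg.Agent.H616.TI
open scoped Pointwise

local notation "SL2" => Matrix.SpecialLinearGroup (Fin 2)
local notation "PSL2" => Matrix.ProjectiveSpecialLinearGroup (Fin 2)

variable {F : Type*} [Field F]

/-- the projection -/
def pr (F : Type*) [Field F] : SL2 F →* PSL2 F := QuotientGroup.mk' (Subgroup.center (SL2 F))

theorem pr_surj : Function.Surjective (pr F) := QuotientGroup.mk'_surjective _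

theorem mem_center {g : SL2 F} : g ∈ Subgroup.center (SL2 F) ↔ g.1 0 1 = 0 ∧ g.1 1 0 = 0 ∧ g.1 0 0 = g.1 1 1 := by
  constructor
  · intro hg
    have h1 := (Subgroup.mem_center_iff.1 hg) (up 1)
    have h2 := (Subgroup.mem_center_iff.1 hg) wl
    have e1 := congrArg (fun x : SL2 F => x.1 0 0) h1
    have e2 := congrArg (fun x : SL2 F => x.1 0 1) h1
    have e3 := congrArg (fun x : SL2 F => x.1 0 0) h2
    simp only [mul00, mul01, up00, up01, up10, up11, wl00, wl01, wl10] at e1 e2 e3
    have e4 : g.1 1 0 = 0 := by linear_combination e1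
    have e5 : g.1 1 1 = g.1 0 0 := by linear_combination e2
    have e6 : g.1 0 1 = 0 := by linear_combination e3 - e4
    exact ⟨e6, e4, e5.symm⟩
  · rintro ⟨h1, h2, h3⟩
    rw [Subgroup.mem_center_iff]
    intro x
    apply ext2
    · rw [mul00, mul00, h1, h2]; ring
    · rw [mul01, mul01, h1, h3]; ring
    · rw [mul10, mul10, h2, h3]; ring
    · rw [mul11, mul11, h1, h2]; ring

theorem mem_ker {g : SL2 F} : g ∈ (pr F).ker ↔ g.1 0 1 = 0 ∧ g.1 1 0 = 0 ∧ g.1 0 0 = g.1 1 1 := by
  rw [pr, QuotientGroup.ker_mk', mem_center]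

theorem ker_le : (pr F).ker ≤ borel F := fun _ hg => (mem_ker.1 hg).2.1

theorem pr_eq_one {g : SL2 F} : pr F g = 1 ↔ g.1 0 1 = 0 ∧ g.1 1 0 = 0 ∧ g.1 0 0 = g.1 1 1 := by
  rw [← MonoidHom.mem_ker, mem_ker]

theorem dataP (F : Type*) [Field F] : Data ((borel F).map (pr F)) ((unip F).map (pr F)) (pr F wl) :=
  SuzukiRankOne.PSUModel.data_map (data F) (pr F) pr_surj ker_le

theorem mem_two_iff {t : PSL2 F} (h1 : t ∈ (borel F).map (pr F)) (h2 : (pr F wl)⁻¹ * t * pr F wl ∈ (borel F).map (pr F)) :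
    ∃ a : Fˣ, t = pr F (dg a) := by
  obtain ⟨g, rfl⟩ := pr_surj t
  have h3 := SuzukiRankOne.PSUModel.mem_of_map_mem (pr F) ker_le h1
  have h4 : wl⁻¹ * g * wl ∈ borel F := by
    apply SuzukiRankOne.PSUModel.mem_of_map_mem (pr F) ker_le
    rw [map_mul, map_mul, map_inv]
    exact h2
  obtain ⟨a, rfl⟩ := two_iff.1 ⟨h3, h4⟩
  exact ⟨a, rfl⟩

theorem two_mem (a : Fˣ) : pr F (dg a) ∈ (borel F).map (pr F) ∧
    (pr F wl)⁻¹ * pr F (dg a) * pr F wl ∈ (borel F).map (pr F) := by
  obtain ⟨h1, h2⟩ := dg_mem_two a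
  refine ⟨Subgroup.mem_map_of_mem _ h1, ?_⟩
  rw [← map_inv, ← map_mul, ← map_mul]
  exact Subgroup.mem_map_of_mem _ h2

theorem pr_up_inj {x y : F} (h : pr F (up x) = pr F (up y)) : x = y := by
  have h1 : pr F (up (x - y)) = 1 := by
    rw [sub_eq_add_neg, ← up_add, map_mul, h, ← map_mul, up_add, add_neg_cancel, up_zero, map_one]
  exact sub_eq_zero.1 (pr_eq_one.1 h1).1

theorem regular {a : Fˣ} (ha : pr F (dg a) ≠ 1) {u : PSL2 F} (hu : u ∈ (unip F).map (pr F))
    (h : pr F (dg a) * u * (pr F (dg a))⁻¹ = u) : u = 1 := by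
  obtain ⟨_, ⟨x, rfl⟩, rfl⟩ := hu
  rw [← map_inv, ← map_mul, ← map_mul, conj_up (dg_mem_two a).1] at h
  have h1 := pr_up_inj h
  rw [dg00] at h1
  have hx : x = 0 := by
    by_contra hx
    apply ha
    rw [pr_eq_one]
    refine ⟨rfl, rfl, ?_⟩
    have h2 : (a : F) * a = 1 := mul_right_cancel₀ hx (by rw [h1, one_mul])
    show (a : F) = ((a⁻¹ : Fˣ) : F)
    rw [Units.val_inv_eq_inv_val]
    exact eq_inv_of_mul_eq_one_left h2
  rw [hx, up_zero, map_one]

/-- the torus as a homomorphism -/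
def tor (F : Type*) [Field F] : Fˣ →* PSL2 F where
  toFun a := pr F (dg a)
  map_one' := by
    rw [pr_eq_one]
    refine ⟨rfl, rfl, ?_⟩
    show ((1 : Fˣ) : F) = (((1 : Fˣ)⁻¹ : Fˣ) : F)
    rw [inv_one]
  map_mul' a b := by
    rw [← map_mul]
    congr 1
    apply ext2
    · rw [mul00, dg00, dg00, dg00, dg01]; simp
    · rw [mul01, dg01, dg01, dg01]; simp
    · rw [mul10, dg10, dg10, dg10]; simp
    · rw [mul11, dg11, dg11, dg11, dg10]
      rw [mul_inv, Units.val_mul, mul_comm]
      ring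

theorem tor_eq_one {a : Fˣ} : tor F a = 1 ↔ a ^ 2 = 1 := by
  show pr F (dg a) = 1 ↔ _
  rw [pr_eq_one]
  constructor
  · rintro ⟨-, -, h⟩
    have h1 : a = a⁻¹ := Units.ext h
    rw [sq]
    nth_rw 1 [h1]
    rw [inv_mul_cancel]
  · intro h
    have h1 : a = a⁻¹ := eq_inv_of_mul_eq_one_left (by rw [← sq, h])
    exact ⟨rfl, rfl, congrArg (fun x : Fˣ => (x : F)) h1⟩

variable [Finite F] {r : ℕ} [hr : Fact r.Prime] [CharP F r]

theorem card_unipP : Nat.card ((unip F).map (pr F)) = Nat.card F := by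
  symm
  refine Nat.card_congr (Equiv.ofBijective (fun x : F => (⟨pr F (up x), Subgroup.mem_map_of_mem _ ⟨x, rfl⟩⟩ :
    (unip F).map (pr F))) ⟨fun x y h => pr_up_inj (congrArg Subtype.val h), ?_⟩)
  rintro ⟨_, _, ⟨x, rfl⟩, rfl⟩
  exact ⟨x, rfl⟩

theorem exists_card (F : Type*) [Field F] [Finite F] (r : ℕ) [hr : Fact r.Prime] [CharP F r] :
    ∃ n : ℕ, 0 < n ∧ Nat.card F = r ^ n := by
  letI : Fintype F := Fintype.ofFinite F
  obtain ⟨n, -, hn⟩ := FiniteField.card F r
  exact ⟨n, n.pos, by rw [Nat.card_eq_fintype_card, hn]⟩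

theorem unipP_ne : (unip F).map (pr F) ≠ ⊥ := by
  intro h
  have h1 := card_unipP (F := F)
  rw [h, Subgroup.card_bot] at h1
  exact (Finite.one_lt_card (α := F)).ne h1

theorem exists_sylP : ∃ P : Sylow r (PSL2 F), (P : Subgroup (PSL2 F)) = (unip F).map (pr F) := by
  obtain ⟨n, hn, hF⟩ := exists_card F r
  refine exists_syl (dataP F) hr.out (IsPGroup.of_card (n := n) (by rw [card_unipP, hF])) unipP_ne ?_
  intro h
  obtain ⟨⟨t, ht⟩, htt⟩ := exists_prime_orderOf_dvd_card' r h
  obtain ⟨a, rfl⟩ := mem_two_iff ht.1 ht.2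
  have h1 : orderOf (tor F a) ∣ orderOf a := orderOf_map_dvd (tor F) a
  have h2 : orderOf (tor F a) = r := by
    have h3 := Subgroup.orderOf_coe (⟨pr F (dg a), ht⟩ : two ((borel F).map (pr F)) (pr F wl))
    rw [htt] at h3
    exact h3
  rw [h2] at h1
  have h3 : orderOf a ∣ Nat.card Fˣ := orderOf_dvd_natCard a
  have h4 := h1.trans h3
  rw [Nat.card_units, hF] at h4
  have h5 : r ∣ r ^ n := dvd_pow_self r hn.ne'
  have h6 : 0 < r ^ n := pow_pos hr.out.pos n
  have h7 : r ∣ 1 := by
    have := Nat.dvd_sub h5 h4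
    have h8 : r ^ n - (r ^ n - 1) = 1 := by omega
    rwa [h8] at this
  exact hr.out.one_lt.ne' (Nat.dvd_one.1 h7)

omit [Finite F] hr [CharP F r] in
theorem conj_tor (a : Fˣ) (x : F) : tor F a * pr F (up x) * (tor F a)⁻¹ = pr F (up ((a : F) * a * x)) := by
  show pr F (dg a) * _ * (pr F (dg a))⁻¹ = _
  rw [← map_inv, ← map_mul, ← map_mul, conj_up (dg_mem_two a).1]
  rfl

omit [Finite F] hr [CharP F r] in
theorem borel_eq {g : SL2 F} (hg : g ∈ borel F) : ∃ (x : F) (a : Fˣ), g = up x * dg a := by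
  have hd := det2 g
  rw [mem_borel] at hg
  rw [hg, mul_zero, sub_zero] at hd
  refine ⟨g.1 0 1 * g.1 0 0, ⟨g.1 0 0, g.1 1 1, hd, by rw [mul_comm]; exact hd⟩, ?_⟩
  apply ext2
  · rw [mul00, up00, up01, dg00, dg10]; simp
  · rw [mul01, up00, up01, dg01, dg11]
    show _ = 1 * 0 + g.1 0 1 * g.1 0 0 * g.1 1 1
    linear_combination (-g.1 0 1) * hd
  · rw [mul10, up10, up11, dg00, dg10, hg]; simp
  · rw [mul11, up10, up11, dg01, dg11]
    show _ = 0 * 0 + 1 * g.1 1 1
    ring

omit [Finite F] hr [CharP F r] in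
theorem two_sq [Finite F] (c : F) : ∃ a b : F, c = a * a + b * b := by
  letI : Fintype F := Fintype.ofFinite F
  by_cases h2 : ringChar F = 2
  · obtain ⟨a, ha⟩ := FiniteField.isSquare_of_char_two h2 c
    exact ⟨a, 0, by rw [ha]; ring⟩
  · have hodd : Fintype.card F % 2 = 1 := FiniteField.odd_card_of_char_ne_two h2
    let f : Polynomial F := Polynomial.X ^ 2
    let g : Polynomial F := Polynomial.X ^ 2 - Polynomial.C c
    obtain ⟨a, b, hab⟩ : ∃ a b, f.eval a + g.eval b = 0 :=
      FiniteField.exists_root_sum_quadratic (Polynomial.degree_X_pow 2)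
        (Polynomial.degree_X_pow_sub_C (by decide) _) hodd
    refine ⟨a, b, ?_⟩
    rw [← sub_eq_zero]
    simp only [f, g, Polynomial.eval_C, Polynomial.eval_X, Polynomial.eval_pow, Polynomial.eval_sub] at hab
    linear_combination -hab

theorem card_tor_ndvd : ¬ r ∣ Nat.card (tor F).range := by
  obtain ⟨n, hn, hF⟩ := exists_card F r
  intro h
  have h1 : Nat.card (tor F).range ∣ Nat.card Fˣ := Subgroup.card_range_dvd (tor F)
  have h2 := h.trans h1
  rw [Nat.card_units, hF] at h2
  have h5 : r ∣ r ^ n := dvd_pow_self r hn.ne'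
  have h6 : 0 < r ^ n := pow_pos hr.out.pos n
  have h7 : r ∣ 1 := by
    have := Nat.dvd_sub h5 h2
    have h8 : r ^ n - (r ^ n - 1) = 1 := by omega
    rwa [h8] at this
  exact hr.out.one_lt.ne' (Nat.dvd_one.1 h7)

theorem result (h : GoalAL.{0}) : GoalPSL := by
  intro F _ _ p hp n hn hF
  haveI : CharP F p := by
    have h1 : ringChar F = p := by
      have hpr : (ringChar F).Prime := by
        haveI := CharP.char_is_prime_or_zero F (ringChar F)
        rcases this with h | h
        · exact h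
        · exfalso
          haveI : CharP F 0 := by
            have := ringChar.charP F
            rwa [h] at this
          haveI := CharP.charP_to_charZero F
          exact not_injective_infinite_finite (fun n : ℕ => (n : F)) Nat.cast_injective
      haveI : Fact (ringChar F).Prime := ⟨hpr⟩
      obtain ⟨m, -, hm⟩ := FiniteField.card F (ringChar F)
      rw [hF] at hm
      have h2 : ringChar F ∣ p ^ n := by
        rw [hm]
        exact dvd_pow_self _ m.pos.ne'
      exact (Nat.prime_dvd_prime_iff_eq hpr hp.out).1 (hpr.dvd_of_dvd_pow h2)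
    rw [← h1]
    exact ringChar.charP F
  obtain ⟨R, hR⟩ := exists_sylP (F := F) (r := p)
  have hN : Subgroup.normalizer ((R : Subgroup (PSL2 F)) : Set (PSL2 F)) = (borel F).map (pr F) := by
    rw [hR]
    exact (dataP F).normalizer_eq (unipP_ne (F := F))
  have hup : ∀ x : F, pr F (up x) ∈ (R : Subgroup (PSL2 F)) := by
    intro x
    rw [hR]
    exact Subgroup.mem_map_of_mem _ ⟨x, rfl⟩
  have hRe : ∀ u : (R : Subgroup (PSL2 F)), ∃ x : F, (u : PSL2 F) = pr F (up x) := by
    intro u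
    have h0 : (u : PSL2 F) ∈ (unip F).map (pr F) := hR ▸ u.2
    obtain ⟨_, ⟨x, rfl⟩, hx⟩ := h0
    exact ⟨x, hx.symm⟩
  have hAN : (tor F).range ≤ Subgroup.normalizer ((R : Subgroup (PSL2 F)) : Set (PSL2 F)) := by
    rw [hN]
    rintro _ ⟨a, rfl⟩
    exact (two_mem a).1
  have hcomm : ∀ u v : (R : Subgroup (PSL2 F)), u * v = v * u := by
    intro u v
    obtain ⟨x, hx⟩ := hRe u
    obtain ⟨y, hy⟩ := hRe v
    apply Subtype.ext
    rw [Subgroup.coe_mul, Subgroup.coe_mul, hx, hy, ← map_mul, ← map_mul, up_add, up_add, add_comm]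
  have hpow : ∀ (x : F) (m : ℕ), (up x) ^ m = up ((m : F) * x) := by
    intro x m
    induction m with
    | zero => rw [pow_zero, Nat.cast_zero, zero_mul, up_zero]
    | succ m ih => rw [pow_succ, ih, up_add, Nat.cast_succ]; congr 1; ring
  have hexp : ∀ u : (R : Subgroup (PSL2 F)), u ^ p = 1 := by
    intro u
    obtain ⟨x, hx⟩ := hRe u
    apply Subtype.ext
    rw [Subgroup.coe_pow, hx, ← map_pow, hpow, CharP.cast_eq_zero, zero_mul, up_zero, map_one]
    rfl
  refine ⟨R, (tor F).range, hAN, card_tor_ndvd (r := p), ?_, ?_⟩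
  · apply le_antisymm
    · rw [sup_le_iff]
      exact ⟨Subgroup.le_normalizer, hAN⟩
    · rw [hN]
      rintro _ ⟨g, hg, rfl⟩
      obtain ⟨x, a, rfl⟩ := borel_eq hg
      rw [map_mul]
      exact Subgroup.mul_mem_sup (hup x) ⟨a, rfl⟩
  · intro E hE hAE hEA z hz hz1 e he hez he1
    letI : CommGroup (R : Subgroup (PSL2 F)) :=
      { (inferInstance : Group (R : Subgroup (PSL2 F))) with mul_comm := hcomm }
    refine h p (R : Subgroup (PSL2 F)) hexp (autOf (R : Subgroup (PSL2 F)) (tor F).range) E hE hAE hEA ?_ ?_ z hz1 e he hez he1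
    · rintro _ ⟨⟨a, haN⟩, ha, rfl⟩ _ ⟨⟨b, hbN⟩, hb, rfl⟩
      obtain ⟨a, rfl⟩ := ha
      obtain ⟨b, rfl⟩ := hb
      rw [← map_mul, ← map_mul]
      congr 1
      apply Subtype.ext
      show tor F a * tor F b = tor F b * tor F a
      rw [← map_mul, ← map_mul, mul_comm]
    · intro W hW
      have hsq : ∀ (b x : F), (⟨pr F (up x), hup x⟩ : (R : Subgroup (PSL2 F))) ∈ W →
          (⟨pr F (up (b * b * x)), hup _⟩ : (R : Subgroup (PSL2 F))) ∈ W := by
        intro b x hx
        by_cases hb : b = 0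
        · have : (⟨pr F (up (b * b * x)), hup _⟩ : (R : Subgroup (PSL2 F))) = 1 := by
            apply Subtype.ext
            show pr F (up (b * b * x)) = 1
            rw [hb, zero_mul, zero_mul, up_zero, map_one]
          rw [this]
          exact W.one_mem
        · have h1 := hW _ (Subgroup.mem_map_of_mem _ (show (⟨tor F (Units.mk0 b hb), hAN ⟨_, rfl⟩⟩ :
            Subgroup.normalizer ((R : Subgroup (PSL2 F)) : Set (PSL2 F))) ∈ (tor F).range.subgroupOf _ from
              Subgroup.mem_subgroupOf.2 ⟨_, rfl⟩)) _ hx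
          convert h1 using 1
          apply Subtype.ext
          show pr F (up (b * b * x)) = tor F (Units.mk0 b hb) * pr F (up x) * (tor F (Units.mk0 b hb))⁻¹
          rw [conj_tor]
          rfl
      have hmul : ∀ (c x : F), (⟨pr F (up x), hup x⟩ : (R : Subgroup (PSL2 F))) ∈ W →
          (⟨pr F (up (c * x)), hup _⟩ : (R : Subgroup (PSL2 F))) ∈ W := by
        intro c x hx
        obtain ⟨a, b, rfl⟩ := two_sq c
        have h1 := W.mul_mem (hsq a x hx) (hsq b x hx)
        convert h1 using 1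
        apply Subtype.ext
        show pr F (up ((a * a + b * b) * x)) = pr F (up (a * a * x)) * pr F (up (b * b * x))
        rw [← map_mul, up_add]
        congr 2
        ring
      by_cases hbot : W = ⊥
      · exact Or.inl hbot
      · right
        obtain ⟨w, hw, hw1⟩ : ∃ w ∈ W, w ≠ 1 := by
          by_contra hcon
          push Not at hcon
          exact hbot ((Subgroup.eq_bot_iff_forall W).2 hcon)
        obtain ⟨x, hx⟩ := hRe w
        have hx0 : x ≠ 0 := by
          rintro rfl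
          apply hw1
          apply Subtype.ext
          rw [hx, up_zero, map_one]
          rfl
        rw [eq_top_iff]
        rintro u -
        obtain ⟨y, hy⟩ := hRe u
        have h1 := hmul (y / x) x (by
          have : (⟨pr F (up x), hup x⟩ : (R : Subgroup (PSL2 F))) = w := Subtype.ext hx.symm
          rw [this]
          exact hw)
        have h2 : (⟨pr F (up (y / x * x)), hup _⟩ : (R : Subgroup (PSL2 F))) = u := by
          apply Subtype.ext
          rw [hy]
          show pr F (up (y / x * x)) = _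
          rw [div_mul_cancel₀ _ hx0]
        rwa [h2] at h1

end Cfsg.Agent.H417.TI.Psl

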